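import Groth.Agent.Lib.AlgSpace.FlatQuot
import Groth.Agent.Lib.AlgSpace.MorDiag
import Groth.Agent.Lib.ThickSp15.Scheme
import Groth.Agent.Lib.GrpQuot.EquivRel

/-!
# Quotient of a flat equivalence relation which has a quotient on a thickened closed subscheme

If an fppf equivalence relation has an fppf quotient scheme on a saturated closed subscheme with the
same points, then its quotient sheaf is an algebraic space which is a thickening of a scheme, hence
a scheme.
-/

universe u

set_option autoImplicit false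
set_option backward.isDefEq.respectTransparency.types false

open CategoryTheory CategoryTheory.Limits AlgebraicGeometry Opposite

namespace Groth.Agent.ThickQuot19

open AlgSp Groth.Agent.AlgSpace Groth.Agent.GrpdB

variable {S : Scheme.{u}} (G : Grpd.GroupoidScheme S)

theorem exists_quotient [Mono G.j] [Flat G.s] [LocallyOfFinitePresentation G.s]
    {U₀ : Scheme.{u}} (c₀ : U₀ ⟶ G.U) [IsClosedImmersion c₀] [Surjective c₀]
    (ψ : pullback G.s c₀ ≅ pullback G.t c₀) (hψ : ψ.hom ≫ pullback.fst G.t c₀ = pullback.fst G.s c₀)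
    {Y₀ : Scheme.{u}} (p₀ : U₀ ⟶ Y₀) [Surjective p₀] [Flat p₀] [LocallyOfFinitePresentation p₀]
    (hp₀ : IsPullback (ψ.hom ≫ pullback.snd G.t c₀) (pullback.snd G.s c₀) p₀ p₀) :
    ∃ (Y : Scheme.{u}) (p : G.U ⟶ Y), Surjective p ∧ Flat p ∧ LocallyOfFinitePresentation p ∧
      IsPullback G.t G.s p p := by
  let UO : Over S := Over.mk G.pU
  let RO : Over S := Over.mk G.pR
  let s : RO ⟶ UO := Over.homMk G.s G.s_over
  let t : RO ⟶ UO := Over.homMk G.t G.t_over
  have hR : IsEqvRel s t :=
    { injective := fun T r r' h₁ h₂ => Over.OverMorphism.ext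
        (GrpQuot.hom_ext_of_mono_j (G := G) (congrArg CommaMorphism.left h₁) (congrArg CommaMorphism.left h₂))
      equivalence := fun T => ⟨fun a => ?_, ?_, ?_⟩ }
  rotate_left
  · refine ⟨Over.homMk (a.left ≫ G.e) ?_, Over.OverMorphism.ext ?_, Over.OverMorphism.ext ?_⟩
    · change (a.left ≫ G.e) ≫ G.pR = T.hom
      rw [Category.assoc, ← G.s_over, reassoc_of% G.e_s]
      exact Over.w a
    · exact (Category.assoc _ _ _).trans ((congrArg (a.left ≫ ·) G.e_t).trans (Category.comp_id _))
    · exact (Category.assoc _ _ _).trans ((congrArg (a.left ≫ ·) G.e_s).trans (Category.comp_id _))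
  · rintro a b ⟨r, rfl, rfl⟩
    refine ⟨Over.homMk (r.left ≫ G.i) ?_, Over.OverMorphism.ext ?_, Over.OverMorphism.ext ?_⟩
    · change (r.left ≫ G.i) ≫ G.pR = T.hom
      rw [Category.assoc, ← G.s_over, reassoc_of% G.i_s, G.t_over]
      exact Over.w r
    · exact (Category.assoc _ _ _).trans (congrArg (r.left ≫ ·) G.i_t)
    · exact (Category.assoc _ _ _).trans (congrArg (r.left ≫ ·) G.i_s)
  · rintro a b c ⟨r, rfl, rfl⟩ ⟨r', h₁, rfl⟩
    have h : r.left ≫ G.s = r'.left ≫ G.t := (congrArg CommaMorphism.left h₁).symm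
    refine ⟨Over.homMk (cmp G r.left r'.left h) ?_, Over.OverMorphism.ext ?_, Over.OverMorphism.ext ?_⟩
    · change cmp G r.left r'.left h ≫ G.pR = T.hom
      rw [← G.s_over, ← Category.assoc, cmp_s, Category.assoc, G.s_over]
      exact Over.w r'
    · exact cmp_t _ _ h
    · exact cmp_s _ _ h
  -- the quotient sheaf
  obtain ⟨w, ⟨hc⟩⟩ := nonempty_isColimit_quot s t
  let p := (QuotSh.repIsoUliftYoneda Scheme.fppfPrecoverage UO).inv ≫ QuotSh.quotπ Scheme.fppfPrecoverage s t
  have : Sheaf.IsLocallySurjective p := isLocallySurjective_quotπ s t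
  have sq : IsPullback ((yon S).map t) ((yon S).map s) p p := isPullback_of_isEqvRel hR w hc
  have : Flat s.left := ‹Flat G.s›
  have : LocallyOfFinitePresentation s.left := ‹LocallyOfFinitePresentation G.s›
  obtain ⟨hF, hfl, hfp, hs⟩ := isAlgSpace_of_flat_kernelPair sq
  -- arrows starting at a point of the subscheme
  have hsat : ∀ {Z : Scheme.{u}} (r : Z ⟶ G.R) (b : Z ⟶ U₀), r ≫ G.s = b ≫ c₀ →
      ∃ a : Z ⟶ U₀, r ≫ G.t = a ≫ c₀ ∧ a ≫ p₀ = b ≫ p₀ := fun {Z} r b h => by
    refine ⟨pullback.lift r b h ≫ ψ.hom ≫ pullback.snd G.t c₀, ?_, ?_⟩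
    · rw [Category.assoc, Category.assoc, ← pullback.condition, reassoc_of% hψ, pullback.lift_fst_assoc]
    · rw [Category.assoc, hp₀.w, pullback.lift_snd_assoc]
  -- the base of the quotient of the subscheme
  have hdesc : ∀ {Z : Scheme.{u}} (a b : Z ⟶ U₀), a ≫ p₀ = b ≫ p₀ →
      a ≫ c₀ ≫ G.pU = b ≫ c₀ ≫ G.pU := fun a b h => by
    obtain ⟨r₀, rfl, rfl⟩ : ∃ r₀, r₀ ≫ ψ.hom ≫ pullback.snd G.t c₀ = a ∧ r₀ ≫ pullback.snd G.s c₀ = b :=
      ⟨_, hp₀.lift_fst a b h, hp₀.lift_snd a b h⟩
    simp only [Category.assoc]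
    rw [← pullback.condition_assoc, ← pullback.condition_assoc, reassoc_of% hψ, G.t_over, G.s_over]
  let πY : Y₀ ⟶ S := EffectiveEpi.desc p₀ (c₀ ≫ G.pU) hdesc
  have hπY : p₀ ≫ πY = c₀ ≫ G.pU := EffectiveEpi.fac _ _ _
  let Y0 : Over S := Over.mk πY
  let U0 : Over S := Over.mk (c₀ ≫ G.pU)
  let pO : U0 ⟶ Y0 := Over.homMk p₀ hπY
  let cO : U0 ⟶ UO := Over.homMk c₀ rfl
  have : Sheaf.IsLocallySurjective ((yon S).map pO) := isLocallySurjective_of_lifts _ fun T g => by
    obtain ⟨b, rfl⟩ := (yon S).map_surjective g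
    let V : Over S := Over.mk (pullback.fst b.left p₀ ≫ T.hom)
    let v : V ⟶ T := Over.homMk (pullback.fst b.left p₀) rfl
    let l : V ⟶ U0 := Over.homMk (pullback.snd b.left p₀) (by
      change pullback.snd b.left p₀ ≫ c₀ ≫ G.pU = pullback.fst b.left p₀ ≫ T.hom
      rw [← hπY, ← pullback.condition_assoc]
      exact congrArg (pullback.fst b.left p₀ ≫ ·) (Over.w b))
    refine ⟨V, v, (yon S).map l, inferInstanceAs (Flat (pullback.fst b.left p₀)),
      inferInstanceAs (Surjective (pullback.fst b.left p₀)),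
      inferInstanceAs (LocallyOfFinitePresentation (pullback.fst b.left p₀)), ?_⟩
    rw [← Functor.map_comp, ← Functor.map_comp]
    exact congrArg _ (Over.OverMorphism.ext pullback.condition.symm)
  have : Epi ((yon S).map pO) := (CategoryTheory.Sheaf.isLocallySurjective_iff_epi _).1 ‹_›
  have hreg : IsRegularEpi ((yon S).map pO) := IsRegularEpiCategory.regularEpiOfEpi _
  obtain ⟨i, hi⟩ := (IsRegularEpi.getStruct ((yon S).map pO)).desc' ((yon S).map cO ≫ p) (hom_ext_yon fun T q => by
    obtain ⟨x, hx⟩ := (yon S).map_surjective (q ≫ (IsRegularEpi.getStruct ((yon S).map pO)).left)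
    obtain ⟨y, hy⟩ := (yon S).map_surjective (q ≫ (IsRegularEpi.getStruct ((yon S).map pO)).right)
    have e : x ≫ pO = y ≫ pO := (yon S).map_injective (by
      rw [Functor.map_comp, Functor.map_comp, hx, hy, Category.assoc, Category.assoc,
        (IsRegularEpi.getStruct ((yon S).map pO)).w])
    have e' : x.left ≫ p₀ = y.left ≫ p₀ := congrArg CommaMorphism.left e
    let r₀ := hp₀.lift x.left y.left e'
    have h₁ : (r₀ ≫ pullback.fst G.s c₀) ≫ G.t = x.left ≫ c₀ := by
      rw [← hp₀.lift_fst x.left y.left e', ← hψ]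
      simp only [Category.assoc]
      rw [pullback.condition]
    have h₂ : (r₀ ≫ pullback.fst G.s c₀) ≫ G.s = y.left ≫ c₀ := by
      rw [← hp₀.lift_snd x.left y.left e', Category.assoc, Category.assoc, pullback.condition]
    let r : T ⟶ RO := Over.homMk (r₀ ≫ pullback.fst G.s c₀) (by
      change (r₀ ≫ pullback.fst G.s c₀) ≫ G.pR = T.hom
      rw [← G.s_over, ← Category.assoc, h₂, Category.assoc]
      exact Over.w y)
    have k₁ : r ≫ t = x ≫ cO := Over.OverMorphism.ext h₁
    have k₂ : r ≫ s = y ≫ cO := Over.OverMorphism.ext h₂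
    rw [← Category.assoc q, ← Category.assoc q, ← hx, ← hy, ← Functor.map_comp_assoc, ← Functor.map_comp_assoc,
      ← k₁, ← k₂, Functor.map_comp_assoc, Functor.map_comp_assoc, sq.w])
  -- two maps agreeing in the quotient are related by an arrow
  have hrel : ∀ {T : Over S} (a : T ⟶ UO) (b : T ⟶ U0),
      (yon S).map a ≫ p = (yon S).map (b ≫ pO) ≫ i →
      ∃ a' : T.left ⟶ U₀, a.left = a' ≫ c₀ ∧ a' ≫ p₀ = b.left ≫ p₀ := fun {T} a b h => by
    have h' : (yon S).map a ≫ p = (yon S).map (b ≫ cO) ≫ p := by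
      rw [h, Functor.map_comp_assoc, hi, Functor.map_comp_assoc]
    obtain ⟨r, hr⟩ := (yon S).map_surjective (sq.lift _ _ h')
    have hrt : r ≫ t = a := (yon S).map_injective (by rw [Functor.map_comp, hr, sq.lift_fst])
    have hrs : r ≫ s = b ≫ cO := (yon S).map_injective (by rw [Functor.map_comp, hr, sq.lift_snd])
    obtain ⟨a', h₁, h₂⟩ := hsat r.left b.left (congrArg CommaMorphism.left hrs)
    exact ⟨a', (congrArg CommaMorphism.left hrt).symm.trans h₁, h₂⟩
  have : Mono i := mono_of_yon i fun T x y e => by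
    obtain ⟨x, rfl⟩ := (yon S).map_surjective x
    obtain ⟨y, rfl⟩ := (yon S).map_surjective y
    obtain ⟨V, v, l, _, _, _, hl⟩ := exists_single_cover_lift ((yon S).map pO) ((yon S).map x)
    obtain ⟨V', v', l', _, _, _, hl'⟩ := exists_single_cover_lift ((yon S).map pO) ((yon S).map (v ≫ y))
    obtain ⟨l, rfl⟩ := (yon S).map_surjective l
    obtain ⟨l', rfl⟩ := (yon S).map_surjective l'
    rw [← Functor.map_comp, ← Functor.map_comp] at hl hl'
    replace hl : l ≫ pO = v ≫ x := (yon S).map_injective hl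
    replace hl' : l' ≫ pO = v' ≫ v ≫ y := (yon S).map_injective hl'
    obtain ⟨a, h₁, h₂⟩ := hrel (v' ≫ l ≫ cO) l' (by
      rw [hl', Functor.map_comp_assoc, Functor.map_comp_assoc, ← hi, ← Functor.map_comp_assoc (yon S) l, hl,
        Functor.map_comp_assoc, e, Functor.map_comp_assoc, Functor.map_comp_assoc])
    have ha : a = v'.left ≫ l.left := (cancel_mono c₀).1 (h₁.symm.trans (Category.assoc _ _ _).symm)
    refine congrArg _ (Over.OverMorphism.ext ?_)
    rw [← cancel_epi v.left, ← cancel_epi v'.left]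
    have k₁ : v.left ≫ x.left = l.left ≫ p₀ := (congrArg CommaMorphism.left hl).symm
    have k₂ : v'.left ≫ v.left ≫ y.left = l'.left ≫ p₀ := (congrArg CommaMorphism.left hl').symm
    rw [k₁, k₂, ← h₂, ha, Category.assoc]
  have : Mono ((yon S).map cO) := mono_of_repWith _ (repWith_mono
    (fun _ _ g (_ : IsClosedImmersion g) => (inferInstance : Mono g))
    ((repWith_yon_map_iff (P := @IsClosedImmersion) cO).2 ‹IsClosedImmersion c₀›))
  have sq₀ : IsPullback ((yon S).map pO) ((yon S).map cO) i p :=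
    isPullback_of_mono_lifts hi fun T y x e => by
      obtain ⟨y, rfl⟩ := (yon S).map_surjective y
      obtain ⟨x, rfl⟩ := (yon S).map_surjective x
      obtain ⟨V, v, l, _, _, _, hl⟩ := exists_single_cover_lift ((yon S).map pO) ((yon S).map x)
      obtain ⟨l, rfl⟩ := (yon S).map_surjective l
      rw [← Functor.map_comp, ← Functor.map_comp] at hl
      replace hl : l ≫ pO = v ≫ x := (yon S).map_injective hl
      obtain ⟨a, h₁, -⟩ := hrel (v ≫ y) l (by
        rw [hl, Functor.map_comp_assoc, Functor.map_comp_assoc, e])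
      have h₁' : v.left ≫ y.left = a ≫ c₀ := h₁
      let z : T.left ⟶ U₀ := EffectiveEpi.desc v.left a fun f g hfg => by
        rw [← cancel_mono c₀, Category.assoc, Category.assoc, ← h₁', reassoc_of% hfg]
      have hz : z ≫ c₀ = y.left := by
        rw [← cancel_epi v.left, EffectiveEpi.fac_assoc, h₁']
      let zO : T ⟶ U0 := Over.homMk z (by
        change z ≫ c₀ ≫ G.pU = T.hom
        rw [reassoc_of% hz]
        exact Over.w y)
      exact ⟨(yon S).map zO, by rw [← Functor.map_comp]; exact congrArg _ (Over.OverMorphism.ext hz)⟩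
  -- the thickening
  have : LocallyOfFiniteType ((prod.lift t s).left ≫ (prod.snd : UO ⨯ UO ⟶ UO).left) := by
    rw [← Over.comp_left, prod.lift_snd]; infer_instance
  have := locallyOfFiniteType_of_comp (prod.lift t s).left (prod.snd : UO ⨯ UO ⟶ UO).left
  have hir : Representable i := Functor.relativelyRepresentable.of_diag (representable_diag_of_cover sq) i
  have := isLocalAtTarget_fppf_isClosedImmersion.{u}
  have := descendsAlong_flat.{u}
  have := isLocalAtTarget_fppf (@Surjective : MorphismProperty Scheme.{u})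
  have hic : RepWith @IsClosedImmersion i :=
    repWith_of_locallySurjective hir sq₀ _ ((repWith_yon_map_iff _ _).2 ‹IsClosedImmersion c₀›)
  have his : RepWith @Surjective i :=
    repWith_of_locallySurjective hir sq₀ _ ((repWith_yon_map_iff _ _).2 ‹Surjective c₀›)
  have hit : IsThickMor i := ⟨hir, fun U V g fst snd h => ⟨hic.2 g fst snd h, his.2 g fst snd h⟩⟩
  obtain ⟨W, ⟨e⟩⟩ := ThickSp15.exists_scheme_of_thick hF hit
  obtain ⟨π, hπ⟩ := (yon S).map_surjective (p ≫ e.inv)
  have prop : ∀ (P : MorphismProperty Scheme.{u}) [P.IsStableUnderBaseChange], RepWith P p → P π.left := by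
    intro P _ hP
    have : RepWith P ((yon S).map π) := by
      rw [hπ, repWith_respectsIso_right]
      exact hP
    exact (repWith_yon_map_iff _ _).1 this
  have sqW : IsPullback ((yon S).map t) ((yon S).map s) ((yon S).map π) ((yon S).map π) := by
    rw [hπ]
    exact IsPullback.of_iso sq (Iso.refl _) (Iso.refl _) (Iso.refl _) e.symm (by simp) (by simp) (by simp) (by simp)
  exact ⟨W.left, π.left, prop @Surjective hs, prop @Flat hfl, prop @LocallyOfFinitePresentation hfp,
    (IsPullback.of_map (yon S) (by simpa only [← Functor.map_comp, (yon S).map_injective.eq_iff] using sqW.w) sqW).map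
      (Over.forget S)⟩

end Groth.Agent.ThickQuot19
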